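import Mathlib
import Cfsg.Agent.H644.KGV.Defs
set_option linter.all false

-- part: H32/KGV/CharTwo
section
/-!
# A congruence modulo 2 for the sign of the non-split Hasse-Davenport formula for `ℓ = 2`
-/

set_option autoImplicit false

namespace Cfsg.Agent.H32.KGV

open Finset

variable {K R : Type*} [Field K] [Fintype K] [CommRing R]

/-- A symmetric function summed over ordered pairs of distinct elements vanishes in
characteristic 2. -/
theorem sum_pairs_eq_zero {ι : Type*} [DecidableEq ι] (hR : (2 : R) = 0) (S : Finset ι) (g : ι → ι → R)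
    (hg : ∀ a b, g a b = g b a) :
    ∑ x ∈ (S ×ˢ S).filter (fun x => x.1 ≠ x.2), g x.1 x.2 = 0 := by
  refine Finset.sum_involution (fun x _ => (x.2, x.1)) ?_ ?_ ?_ ?_
  · rintro ⟨a, b⟩ _
    show g a b + g b a = 0
    rw [hg b a, ← two_mul, hR, zero_mul]
  · rintro ⟨a, b⟩ hx _ h
    simp only [mem_filter, Prod.mk.injEq] at hx h
    exact hx.2 h.2
  · rintro ⟨a, b⟩ hx
    simp only [mem_filter, mem_product] at hx ⊢
    exact ⟨⟨hx.1.2, hx.1.1⟩, fun h => hx.2 h.symm⟩
  · rintro ⟨a, b⟩ _
    rfl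

open Classical in
/-- The nonzero squares. -/
noncomputable def sqs (K : Type*) [Field K] [Fintype K] : Finset K :=
  univ.filter fun s => s ≠ 0 ∧ IsSquare s

open Classical in
theorem mem_sqs {s : K} : s ∈ sqs K ↔ s ≠ 0 ∧ IsSquare s := by
  simp [sqs]

open Classical in
/-- The pairs `(t, n)` with `n` a nonzero square and `t ^ 2 - 4 n` not a square. -/
noncomputable def prs (K : Type*) [Field K] [Fintype K] : Finset (K × K) :=
  univ.filter fun d => d.2 ≠ 0 ∧ IsSquare d.2 ∧ ¬ IsSquare (d.1 ^ 2 - 4 * d.2)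

open Classical in
theorem mem_prs {d : K × K} :
    d ∈ prs K ↔ d.2 ≠ 0 ∧ IsSquare d.2 ∧ ¬ IsSquare (d.1 ^ 2 - 4 * d.2) := by
  simp [prs]

open Classical in
theorem char2_identity (h2 : (2 : K) ≠ 0) (hR : (2 : R) = 0) (ψ : AddChar K R) (c : K → R) :
    ∑ s ∈ sqs K, ψ (2 * s) * c (s ^ 2) +
      (∑ s ∈ sqs K, ψ s) * (∑ y ∈ univ.filter (fun y : K => y ≠ 0), ψ (2 * y) * c (y ^ 2)) +
      ∑ d ∈ prs K, ψ d.1 * c d.2 = 0 := by
  have h4 : (4 : K) ≠ 0 := by
    have : (4 : K) = 2 * 2 := by norm_num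
    rw [this]; exact mul_ne_zero h2 h2
  set g : K → K → R := fun s u => ψ ((s + u) / 2) * c (((u - s) / 4) ^ 2) with hg
  have hgs : ∀ a b, g a b = g b a := by
    intro a b
    simp only [hg]
    rw [add_comm a b]
    congr 2
    ring
  -- the second sum
  have hsecond : (∑ s ∈ sqs K, ψ s) *
      (∑ y ∈ univ.filter (fun y : K => y ≠ 0), ψ (2 * y) * c (y ^ 2)) =
      ∑ s ∈ sqs K, ∑ u ∈ univ.filter (fun u : K => u ≠ s), g s u := by
    rw [Finset.sum_mul]
    refine Finset.sum_congr rfl fun s _ => ?_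
    rw [Finset.mul_sum]
    refine Finset.sum_bij' (fun y _ => s + 4 * y) (fun u _ => (u - s) / 4) ?_ ?_ ?_ ?_ ?_
    · intro y hy
      simp only [mem_filter, mem_univ, true_and] at hy ⊢
      intro h
      have : 4 * y = 0 := by linear_combination h
      rcases mul_eq_zero.1 this with h | h
      · exact h4 h
      · exact hy h
    · intro u hu
      simp only [mem_filter, mem_univ, true_and] at hu ⊢
      exact div_ne_zero (sub_ne_zero.2 hu) h4
    · intro y _
      field_simp
      ring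
    · intro u _
      field_simp
      ring
    · intro y _
      simp only [hg]
      rw [← mul_assoc, ← AddChar.map_add_eq_mul]
      have e1 : (s + (s + 4 * y)) / 2 = s + 2 * y := by field_simp; ring
      have e2 : (s + 4 * y - s) / 4 = y := by field_simp; ring
      rw [e1, e2]
  -- split the inner sum
  have hsplit : ∀ s ∈ sqs K, ∑ u ∈ univ.filter (fun u : K => u ≠ s), g s u =
      (∑ u ∈ (sqs K).filter (fun u => s ≠ u), g s u) + g s 0 +
        ∑ u ∈ univ.filter (fun u : K => ¬ IsSquare u), g s u := by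
    intro s hs
    obtain ⟨hs0, hs1⟩ := mem_sqs.1 hs
    have e : univ.filter (fun u : K => u ≠ s) =
        ((sqs K).filter (fun u => s ≠ u) ∪ {0}) ∪ univ.filter (fun u : K => ¬ IsSquare u) := by
      ext u
      simp only [mem_filter, mem_univ, true_and, mem_union, mem_sqs, mem_singleton]
      constructor
      · intro h
        by_cases h0 : u = 0
        · exact Or.inl (Or.inr h0)
        · by_cases h1 : IsSquare u
          · exact Or.inl (Or.inl ⟨⟨h0, h1⟩, fun h' => h h'.symm⟩)
          · exact Or.inr h1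
      · rintro ((h | h) | h)
        · exact fun h' => h.2 h'.symm
        · rw [h]; exact fun h' => hs0 h'.symm
        · rintro rfl; exact h hs1
    rw [e, Finset.sum_union, Finset.sum_union, Finset.sum_singleton]
    · rw [Finset.disjoint_left]
      intro u hu hu'
      simp only [mem_filter, mem_sqs, mem_singleton] at hu hu'
      exact hu.1.1 hu'
    · rw [Finset.disjoint_left]
      intro u hu hu'
      simp only [mem_filter, mem_univ, true_and, mem_union, mem_sqs, mem_singleton] at hu hu'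
      rcases hu with hu | hu
      · exact hu' hu.1.2
      · rw [hu] at hu'; exact hu' IsSquare.zero
  rw [hsecond, Finset.sum_congr rfl hsplit, Finset.sum_add_distrib, Finset.sum_add_distrib]
  -- ordered pairs of distinct squares
  have hA : ∑ s ∈ sqs K, ∑ u ∈ (sqs K).filter (fun u => s ≠ u), g s u = 0 := by
    rw [← sum_pairs_eq_zero hR (sqs K) g hgs, Finset.sum_filter, Finset.sum_product]
    refine Finset.sum_congr rfl fun s _ => ?_
    rw [Finset.sum_filter]
  -- `u = 0`
  have hB : ∑ s ∈ sqs K, g s 0 = ∑ s ∈ sqs K, ψ (2 * s) * c (s ^ 2) := by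
    refine Finset.sum_bij' (fun s _ => s / 4) (fun s _ => 4 * s) ?_ ?_ ?_ ?_ ?_
    · intro s hs
      obtain ⟨h0, r, rfl⟩ := mem_sqs.1 hs
      refine mem_sqs.2 ⟨div_ne_zero h0 h4, r / 2, ?_⟩
      field_simp; ring
    · intro s hs
      obtain ⟨h0, r, rfl⟩ := mem_sqs.1 hs
      exact mem_sqs.2 ⟨mul_ne_zero h4 h0, 2 * r, by ring⟩
    · intro s _
      field_simp
    · intro s _
      field_simp
    · intro s _
      simp only [hg]
      have e1 : (s + 0) / 2 = 2 * (s / 4) := by field_simp; ring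
      have e2 : ((0 - s) / 4) ^ 2 = (s / 4) ^ 2 := by ring
      rw [e1, e2]
  -- nonsquares
  have hC : ∑ s ∈ sqs K, ∑ u ∈ univ.filter (fun u : K => ¬ IsSquare u), g s u =
      ∑ d ∈ prs K, ψ d.1 * c d.2 := by
    rw [← Finset.sum_product' (sqs K) (univ.filter (fun u : K => ¬ IsSquare u)) g]
    refine Finset.sum_bij (fun x _ => ((x.1 + x.2) / 2, ((x.2 - x.1) / 4) ^ 2)) ?_ ?_ ?_ ?_
    · rintro ⟨s, u⟩ hx
      simp only [mem_product, mem_filter, mem_univ, true_and] at hx
      obtain ⟨hs, hu⟩ := hx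
      obtain ⟨hs0, hs1⟩ := mem_sqs.1 hs
      refine mem_prs.2 ⟨?_, ⟨(u - s) / 4, by ring⟩, ?_⟩
      · refine pow_ne_zero _ (div_ne_zero (sub_ne_zero.2 ?_) h4)
        intro h
        exact hu (by have h : u = s := h
                     rw [h]; exact hs1)
      · intro h
        have e : ((s + u) / 2) ^ 2 - 4 * ((u - s) / 4) ^ 2 = s * u := by field_simp; ring
        simp only [e] at h
        apply hu
        obtain ⟨r, rfl⟩ := hs1
        obtain ⟨t, ht⟩ := h
        have hr : r ≠ 0 := fun h => hs0 (by rw [h, mul_zero])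
        refine ⟨t / r, ?_⟩
        field_simp
        linear_combination ht
    · rintro ⟨s, u⟩ hx ⟨s', u'⟩ hx' h
      simp only [mem_product, mem_filter, mem_univ, true_and] at hx hx'
      simp only [Prod.mk.injEq] at h ⊢
      obtain ⟨hs, hu⟩ := hx
      obtain ⟨hs', hu'⟩ := hx'
      obtain ⟨hs0, hs1⟩ := mem_sqs.1 hs
      obtain ⟨hs0', hs1'⟩ := mem_sqs.1 hs'
      obtain ⟨h1, h2'⟩ := h
      have h1 : s + u = s' + u' := by
        have := congrArg (fun x => x * 2) h1
        simpa [h2] using this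
      have h3 : (u - s) ^ 2 = (u' - s') ^ 2 := by
        have := congrArg (fun x => x * 4 ^ 2) h2'
        simp only [div_pow, div_mul_cancel₀ _ (pow_ne_zero 2 h4)] at this
        exact this
      rcases sq_eq_sq_iff_eq_or_eq_neg.1 h3 with h3 | h3
      · have hu : u = u' := by
          have : 2 * u = 2 * u' := by linear_combination h1 + h3
          exact mul_left_cancel₀ h2 this
        refine ⟨?_, hu⟩
        rw [hu] at h1
        exact add_right_cancel h1
      · exfalso
        have : 2 * u = 2 * s' := by linear_combination h1 + h3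
        have hu2 : u = s' := mul_left_cancel₀ h2 this
        exact hu (hu2 ▸ hs1')
    · rintro ⟨t, n⟩ hd
      obtain ⟨hn0, ⟨m, hm⟩, hns⟩ := mem_prs.1 hd
      simp only at hn0 hm hns
      have hm0 : m ≠ 0 := by rintro rfl; exact hn0 (by rw [hm, mul_zero])
      have e : t ^ 2 - 4 * n = (t - 2 * m) * (t + 2 * m) := by rw [hm]; ring
      rw [e] at hns
      have hne1 : t - 2 * m ≠ 0 := by
        intro h; rw [h, zero_mul] at hns; exact hns IsSquare.zero
      have hne2 : t + 2 * m ≠ 0 := by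
        intro h; rw [h, mul_zero] at hns; exact hns IsSquare.zero
      by_cases h1 : IsSquare (t - 2 * m)
      · have h2' : ¬ IsSquare (t + 2 * m) := fun h => hns (h1.mul h)
        refine ⟨(t - 2 * m, t + 2 * m), ?_, ?_⟩
        · simp only [mem_product, mem_filter, mem_univ, true_and]
          exact ⟨mem_sqs.2 ⟨hne1, h1⟩, h2'⟩
        · simp only [Prod.mk.injEq]
          constructor
          · field_simp; ring
          · rw [hm]; field_simp; ring
      · by_cases h2' : IsSquare (t + 2 * m)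
        · refine ⟨(t + 2 * m, t - 2 * m), ?_, ?_⟩
          · simp only [mem_product, mem_filter, mem_univ, true_and]
            exact ⟨mem_sqs.2 ⟨hne2, h2'⟩, h1⟩
          · simp only [Prod.mk.injEq]
            constructor
            · field_simp; ring
            · rw [hm]; field_simp; ring
        · exfalso
          apply hns
          have hchar : ringChar K ≠ 2 := by
            intro h
            apply h2
            have := (ringChar.spec K 2).2 (by rw [h])
            exact_mod_cast this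
          rw [← quadraticChar_neg_one_iff_not_isSquare] at h1 h2'
          have := (quadraticChar_one_iff_isSquare (mul_ne_zero hne1 hne2)).1
            (by rw [map_mul, h1, h2']; norm_num)
          exact this
    · rintro ⟨s, u⟩ _
      rfl
  rw [hA, hB, hC, zero_add]
  have : ∀ a b : R, a + (a + b) + b = 0 := by
    intro a b
    have : a + (a + b) + b = 2 * (a + b) := by ring
    rw [this, hR, zero_mul]
  exact this _ _

end Cfsg.Agent.H32.KGV
end

-- part: H32/KGV/Quad
section
/-!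
# Quadratic extensions of finite fields of odd characteristic
-/

set_option autoImplicit false

namespace Cfsg.Agent.H32.KGV

open Finset

section

variable {K L : Type*} [Field K] [Fintype K] [Field L] [Fintype L] [Algebra K L]

theorem trace_eq (hf : Module.finrank K L = 2) (x : L) :
    algebraMap K L (Algebra.trace K L x) = x + x ^ Fintype.card K := by
  rw [FiniteField.algebraMap_trace_eq_sum_pow, hf]
  simp [Finset.sum_range_succ]

theorem norm_eq (hf : Module.finrank K L = 2) (x : L) :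
    algebraMap K L (Algebra.norm K x) = x * x ^ Fintype.card K := by
  rw [FiniteField.algebraMap_norm_eq_prod_pow, hf]
  simp [Finset.prod_range_succ]

/-- Frobenius. -/
noncomputable abbrev fr (K L : Type*) [Field K] [Fintype K] [Field L] [Algebra K L] : L →ₐ[K] L :=
  FiniteField.frobeniusAlgHom K L

theorem fr_apply (x : L) : fr K L x = x ^ Fintype.card K := rfl

theorem card_eq (hf : Module.finrank K L = 2) : Fintype.card L = Fintype.card K ^ 2 := by
  rw [Module.card_eq_pow_finrank (K := K) (V := L), hf]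

theorem fr_fr (hf : Module.finrank K L = 2) (x : L) : fr K L (fr K L x) = x := by
  rw [fr_apply, fr_apply, ← pow_mul, ← pow_two, ← card_eq hf, FiniteField.pow_card]

theorem trace_fr (hf : Module.finrank K L = 2) (x : L) :
    Algebra.trace K L (fr K L x) = Algebra.trace K L x := by
  apply (algebraMap K L).injective
  rw [trace_eq hf, trace_eq hf, ← fr_apply, ← fr_apply, fr_fr hf, add_comm]

theorem norm_fr (hf : Module.finrank K L = 2) (x : L) :
    Algebra.norm K (fr K L x) = Algebra.norm K x := by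
  apply (algebraMap K L).injective
  rw [norm_eq hf, norm_eq hf, ← fr_apply, ← fr_apply, fr_fr hf, mul_comm]

theorem two_ne (h2 : ringChar K ≠ 2) : (2 : K) ≠ 0 := by
  intro h
  have h' : ((2 : ℕ) : K) = 0 := by exact_mod_cast h
  have h3 := (ringChar.spec K 2).1 h'
  have h4 : (ringChar K).Prime := CharP.char_is_prime K _
  exact h2 ((Nat.prime_dvd_prime_iff_eq h4 Nat.prime_two).1 h3)

theorem two_ne' (h2 : ringChar K ≠ 2) : (2 : L) ≠ 0 := by
  have := two_ne h2
  intro h
  apply this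
  apply (algebraMap K L).injective
  rw [map_ofNat, map_zero, h]

theorem fr_eq_iff (hf : Module.finrank K L = 2) (h2 : ringChar K ≠ 2) (x : L) :
    fr K L x = x ↔ ∃ k : K, algebraMap K L k = x := by
  constructor
  · intro h
    refine ⟨Algebra.trace K L x / 2, ?_⟩
    have h3 := two_ne' (K := K) (L := L) h2
    rw [map_div₀, trace_eq hf, ← fr_apply, h, map_ofNat]
    field_simp
    ring
  · rintro ⟨k, rfl⟩
    exact AlgHom.commutes _ _

theorem not_isSquare_disc (hf : Module.finrank K L = 2) (h2 : ringChar K ≠ 2) {y : L}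
    (hy : ∀ k : K, algebraMap K L k ≠ y) :
    ¬ IsSquare (Algebra.trace K L y ^ 2 - 4 * Algebra.norm K y) := by
  rintro ⟨d, hd⟩
  have h3 := two_ne' (K := K) (L := L) h2
  have e : (y - fr K L y) ^ 2 = (algebraMap K L d) ^ 2 := by
    have := congrArg (algebraMap K L) hd
    rw [map_sub, map_pow, map_mul, map_mul, trace_eq hf, norm_eq hf, map_ofNat] at this
    rw [fr_apply]
    linear_combination this
  have ht := trace_eq hf y
  rw [← fr_apply] at ht
  rcases sq_eq_sq_iff_eq_or_eq_neg.1 e with e | e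
  · apply hy ((Algebra.trace K L y + d) / 2)
    rw [map_div₀, map_add, ht, ← e, map_ofNat]
    field_simp
    ring
  · apply hy ((Algebra.trace K L y - d) / 2)
    have e' : algebraMap K L d = - (y - fr K L y) := by rw [e, neg_neg]
    rw [map_div₀, map_sub, ht, e', map_ofNat]
    field_simp
    ring

theorem eq_or_eq_fr (hf : Module.finrank K L = 2) {y z : L}
    (ht : Algebra.trace K L y = Algebra.trace K L z) (hn : Algebra.norm K y = Algebra.norm K z) :
    z = y ∨ z = fr K L y := by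
  have e1 : y + fr K L y = z + fr K L z := by
    rw [fr_apply, fr_apply, ← trace_eq hf, ← trace_eq hf, ht]
  have e2 : y * fr K L y = z * fr K L z := by
    rw [fr_apply, fr_apply, ← norm_eq hf, ← norm_eq hf, hn]
  have : (z - y) * (z - fr K L y) = 0 := by linear_combination e2 - z * e1
  rcases mul_eq_zero.1 this with h | h
  · exact Or.inl (sub_eq_zero.1 h)
  · exact Or.inr (sub_eq_zero.1 h)

theorem exists_sqrt (hf : Module.finrank K L = 2) (h2 : ringChar K ≠ 2) (a : K) (ha : a ≠ 0) :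
    ∃ d : L, d ^ 2 = algebraMap K L a := by
  have hodd : Fintype.card K % 2 = 1 := FiniteField.odd_card_of_char_ne_two h2
  have hL2 : ringChar L ≠ 2 := by
    rw [← Algebra.ringChar_eq K L]
    exact h2
  have h : IsSquare (algebraMap K L a) := by
    rw [FiniteField.isSquare_iff hL2 ((map_ne_zero _).2 ha), ← map_pow]
    have hq : Fintype.card L / 2 = (Fintype.card K - 1) * ((Fintype.card K + 1) / 2) := by
      rw [card_eq hf]
      obtain ⟨m, hm⟩ : ∃ m, Fintype.card K = 2 * m + 1 := ⟨Fintype.card K / 2, by omega⟩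
      rw [hm]
      have e1 : (2 * m + 1 + 1) / 2 = m + 1 := by omega
      have e2 : (2 * m + 1) ^ 2 = 2 * (2 * m * (m + 1)) + 1 := by ring
      rw [e1, e2]
      have e3 : 2 * m + 1 - 1 = 2 * m := by omega
      rw [e3]
      omega
    rw [hq, pow_mul, FiniteField.pow_card_sub_one_eq_one a ha, one_pow, map_one]
  obtain ⟨d, hd⟩ := h
  exact ⟨d, by rw [pow_two, hd]⟩

theorem exists_root (hf : Module.finrank K L = 2) (h2 : ringChar K ≠ 2) {t n : K}
    (h : ¬ IsSquare (t ^ 2 - 4 * n)) :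
    ∃ y : L, (∀ k : K, algebraMap K L k ≠ y) ∧ Algebra.trace K L y = t ∧ Algebra.norm K y = n := by
  have h0 : t ^ 2 - 4 * n ≠ 0 := fun h' => h (by rw [h']; exact IsSquare.zero)
  obtain ⟨d, hd⟩ := exists_sqrt (L := L) hf h2 _ h0
  have h3 := two_ne' (K := K) (L := L) h2
  have h3' := two_ne h2
  have hdr : ∀ k : K, algebraMap K L k ≠ d := by
    rintro k rfl
    rw [← map_pow] at hd
    have := (algebraMap K L).injective hd
    exact h ⟨k, by rw [← this, pow_two]⟩
  have hfd : fr K L d = - d := by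
    have e : (fr K L d) ^ 2 = d ^ 2 := by
      rw [← map_pow, hd, AlgHom.commutes]
    rcases sq_eq_sq_iff_eq_or_eq_neg.1 e with e | e
    · exact absurd ((fr_eq_iff hf h2 d).1 e) (by rintro ⟨k, hk⟩; exact hdr k hk)
    · exact e
  have hfy : fr K L ((algebraMap K L t + d) / 2) = (algebraMap K L t - d) / 2 := by
    rw [map_div₀, map_add, AlgHom.commutes, hfd, map_ofNat, sub_eq_add_neg]
  refine ⟨(algebraMap K L t + d) / 2, ?_, ?_, ?_⟩
  · intro k hk
    apply hdr (2 * k - t)
    rw [map_sub, map_mul, hk, map_ofNat]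
    field_simp
    ring
  · apply (algebraMap K L).injective
    rw [trace_eq hf, ← fr_apply, hfy]
    field_simp
    ring
  · apply (algebraMap K L).injective
    rw [norm_eq hf, ← fr_apply, hfy]
    have e : (algebraMap K L t + d) / 2 * ((algebraMap K L t - d) / 2) =
        ((algebraMap K L t) ^ 2 - d ^ 2) / (2 * 2) := by
      field_simp
      ring
    rw [e, hd, ← map_pow, ← map_sub]
    have e2 : t ^ 2 - (t ^ 2 - 4 * n) = (2 * 2) * n := by ring
    rw [e2, map_mul, map_mul, map_ofNat]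
    field_simp

end

end Cfsg.Agent.H32.KGV
end

-- part: H32/KGV/Sign
section
/-!
# The sign in the non-split Hasse-Davenport formula for `ℓ = 2`
-/

set_option autoImplicit false
set_option linter.unusedSectionVars false

namespace Cfsg.Agent.H32.KGV

open Finset Cfsg.Agent.H644.KGV

/-! ## Multiplicative characters -/

section chars

variable {K L : Type} [Field K] [Fintype K] [Field L] [Fintype L] [Algebra K L]

theorem mulNorm_apply (χ : MulChar K ℂ) (y : L) :
    (mulNorm (L := L) χ : MulChar L ℂ) y = χ (Algebra.norm K y) := by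
  by_cases hy : y = 0
  · subst hy
    rw [Algebra.norm_zero, MulChar.map_nonunit _ not_isUnit_zero,
      MulChar.map_nonunit _ not_isUnit_zero]
  · obtain ⟨u, rfl⟩ : IsUnit y := isUnit_iff_ne_zero.2 hy
    rw [mulNorm, MulChar.ofUnitHom_coe]
    rfl

theorem addTrace_apply (ψ : AddChar K ℂ) (y : L) :
    addTrace L ψ y = ψ (Algebra.trace K L y) := rfl

theorem norm_ne_zero' {y : L} (hy : y ≠ 0) : Algebra.norm K y ≠ 0 := by
  rwa [Ne, Algebra.norm_eq_zero_iff]

/-- A nontrivial character takes a nontrivial value at a generator. -/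
theorem apply_gen_ne_one {F : Type} [Field F] [Fintype F] {θ : MulChar F ℂ} (hθ : θ ≠ 1) {g : Fˣ}
    (hg : ∀ x : Fˣ, x ∈ Subgroup.zpowers g) : θ g ≠ 1 := by
  intro h
  apply hθ
  ext u
  obtain ⟨k, hk⟩ := Subgroup.mem_zpowers_iff.1 (hg u)
  rw [MulChar.one_apply_coe, ← hk]
  have : (θ.toUnitHom g : ℂˣ) = 1 := by
    apply Units.ext
    rw [MulChar.coe_toUnitHom, h, Units.val_one]
  rw [← MulChar.coe_toUnitHom, map_zpow, this, one_zpow, Units.val_one]

/-- Two nontrivial quadratic characters are equal. -/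
theorem quad_unique {F : Type} [Field F] [Fintype F] {θ θ' : MulChar F ℂ} (hθ : θ ≠ 1)
    (hθ' : θ' ≠ 1) (h2 : θ ^ 2 = 1) (h2' : θ' ^ 2 = 1) : θ = θ' := by
  obtain ⟨g, hg⟩ := IsCyclic.exists_generator (α := Fˣ)
  have hv : ∀ t : MulChar F ℂ, t ≠ 1 → t ^ 2 = 1 → t g = -1 := by
    intro t ht ht2
    have h1 := apply_gen_ne_one ht hg
    have h3 : (t g) ^ 2 = 1 := by
      rw [← MulChar.pow_apply_coe, ht2, MulChar.one_apply_coe]
    rcases sq_eq_sq_iff_eq_or_eq_neg.1 (h3.trans (one_pow 2).symm) with h | h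
    · exact absurd h h1
    · exact h
  ext u
  obtain ⟨k, hk⟩ := Subgroup.mem_zpowers_iff.1 (hg u)
  have : θ.toUnitHom g = θ'.toUnitHom g := by
    apply Units.ext
    rw [MulChar.coe_toUnitHom, MulChar.coe_toUnitHom, hv θ hθ h2, hv θ' hθ' h2']
  rw [← hk, ← MulChar.coe_toUnitHom, ← MulChar.coe_toUnitHom, map_zpow, map_zpow, this]

theorem pow_card_sub_one (χ : MulChar K ℂ) : χ ^ (Fintype.card K - 1) = 1 := by
  ext u
  rw [MulChar.pow_apply_coe, MulChar.one_apply_coe, ← map_pow,
    FiniteField.pow_card_sub_one_eq_one _ u.ne_zero, MulChar.map_one]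

theorem mulNorm_pow (χ : MulChar K ℂ) (n : ℕ) :
    (mulNorm (L := L) χ : MulChar L ℂ) ^ n = mulNorm (χ ^ n) := by
  ext u
  have hN : IsUnit (Algebra.norm K (u : L)) := (isUnit_iff_ne_zero.2 (norm_ne_zero' u.ne_zero))
  obtain ⟨w, hw⟩ := hN
  rw [MulChar.pow_apply_coe, mulNorm_apply, mulNorm_apply, ← hw, MulChar.pow_apply_coe]

theorem mulNorm_one : (mulNorm (L := L) (1 : MulChar K ℂ) : MulChar L ℂ) = 1 := by
  ext u
  have hN : IsUnit (Algebra.norm K (u : L)) := (isUnit_iff_ne_zero.2 (norm_ne_zero' u.ne_zero))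
  obtain ⟨w, hw⟩ := hN
  rw [mulNorm_apply, ← hw, MulChar.one_apply_coe, MulChar.one_apply_coe]

theorem mulNorm_ne_one {χ : MulChar K ℂ} (hχ : χ ≠ 1) :
    (mulNorm (L := L) χ : MulChar L ℂ) ≠ 1 := by
  intro h
  apply hχ
  ext u
  obtain ⟨z, hz⟩ := FiniteField.norm_surjective K L (u : K)
  have hz0 : z ≠ 0 := by
    rintro rfl
    rw [Algebra.norm_zero] at hz
    exact u.ne_zero hz.symm
  obtain ⟨w, rfl⟩ : IsUnit z := isUnit_iff_ne_zero.2 hz0
  rw [MulChar.one_apply_coe, ← hz, ← mulNorm_apply, h, MulChar.one_apply_coe]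

variable {X : MulChar L ℂ} {Y η : MulChar K ℂ}

theorem X_pow_eq (hη : η ≠ 1) (hη2 : η ^ 2 = 1)
    (hXY : X ^ 2 = mulNorm Y) (hX : X ^ (Fintype.card K - 1) ≠ 1) :
    X ^ (Fintype.card K - 1) = mulNorm η := by
  apply quad_unique hX (mulNorm_ne_one hη)
  · rw [← pow_mul, mul_comm, pow_mul, hXY, mulNorm_pow, pow_card_sub_one, mulNorm_one]
  · rw [mulNorm_pow, hη2, mulNorm_one]

theorem X_sq_apply (hXY : X ^ 2 = mulNorm Y) (y : L) : X y ^ 2 = Y (Algebra.norm K y) := by
  rw [← mulNorm_apply, ← hXY, MulChar.pow_apply' _ two_ne_zero]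

theorem X_pow_apply (hη : η ≠ 1) (hη2 : η ^ 2 = 1)
    (hXY : X ^ 2 = mulNorm Y) (hX : X ^ (Fintype.card K - 1) ≠ 1) (y : L) :
    X y ^ (Fintype.card K - 1) = η (Algebra.norm K y) := by
  have h1 : 1 < Fintype.card K := Fintype.one_lt_card
  rw [← mulNorm_apply, ← X_pow_eq hη hη2 hXY hX, MulChar.pow_apply' _ (by omega)]

theorem X_frob (hη : η ≠ 1) (hη2 : η ^ 2 = 1)
    (hXY : X ^ 2 = mulNorm Y) (hX : X ^ (Fintype.card K - 1) ≠ 1) (y : L) :
    X (fr K L y) = X y * η (Algebra.norm K y) := by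
  have h1 : 1 < Fintype.card K := Fintype.one_lt_card
  rw [← X_pow_apply hη hη2 hXY hX, fr_apply, map_pow, ← pow_succ']
  congr 1
  omega

theorem X_algebraMap (hf : Module.finrank K L = 2) (hη : η ≠ 1) (hη2 : η ^ 2 = 1)
    (hXY : X ^ 2 = mulNorm Y) (hX : X ^ (Fintype.card K - 1) ≠ 1) (k : K) :
    X (algebraMap K L k) = Y k * η k := by
  obtain ⟨z, hz⟩ := FiniteField.norm_surjective K L k
  have h1 : 1 < Fintype.card K := Fintype.one_lt_card
  have e : algebraMap K L k = z ^ (2 + (Fintype.card K - 1)) := by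
    rw [← hz, norm_eq hf, ← pow_succ']
    congr 1
    omega
  rw [e, map_pow, pow_add, X_sq_apply hXY, X_pow_apply hη hη2 hXY hX, hz]

theorem eta_sq (hη2 : η ^ 2 = 1) {k : K} (hk : k ≠ 0) : η k ^ 2 = 1 := by
  obtain ⟨u, rfl⟩ : IsUnit k := isUnit_iff_ne_zero.2 hk
  rw [← MulChar.pow_apply_coe, hη2, MulChar.one_apply_coe]

theorem eta_of_isSquare (hη2 : η ^ 2 = 1) {k : K} (hk : k ≠ 0) (hs : IsSquare k) : η k = 1 := by
  obtain ⟨r, rfl⟩ := hs
  have hr : r ≠ 0 := fun h => hk (by rw [h, mul_zero])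
  rw [map_mul, ← pow_two, eta_sq hη2 hr]

theorem eta_of_not_isSquare (hη : η ≠ 1) (hη2 : η ^ 2 = 1) {k : K}
    (hs : ¬ IsSquare k) : η k = -1 := by
  classical
  have hk : k ≠ 0 := by rintro rfl; exact hs IsSquare.zero
  obtain ⟨g, hg⟩ := IsCyclic.exists_generator (α := Kˣ)
  have h1 := apply_gen_ne_one hη hg
  have hg1 : η (g : K) = -1 := by
    rcases sq_eq_sq_iff_eq_or_eq_neg.1 ((eta_sq hη2 g.ne_zero).trans (one_pow 2).symm) with h | h
    · exact absurd h h1
    · exact h
  have hgs : ¬ IsSquare (g : K) := by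
    intro h
    exact h1 (eta_of_isSquare hη2 g.ne_zero h)
  have hkg : IsSquare (k * g) := by
    rw [← quadraticChar_neg_one_iff_not_isSquare] at hs hgs
    rw [← quadraticChar_one_iff_isSquare (mul_ne_zero hk g.ne_zero), map_mul, hs, hgs]
    norm_num
  have h3 := eta_of_isSquare hη2 (mul_ne_zero hk g.ne_zero) hkg
  rw [map_mul, hg1] at h3
  linear_combination -h3

/-! ## Gauss sums -/

open Classical in
theorem sum_nonzero (f : K → ℂ) (h0 : f 0 = 0) :
    ∑ k, f k = ∑ k ∈ sqs K, f k + ∑ k ∈ univ.filter (fun k : K => ¬ IsSquare k), f k := by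
  have e : (univ : Finset K) = ({0} ∪ sqs K) ∪ univ.filter (fun k : K => ¬ IsSquare k) := by
    ext k
    simp only [mem_univ, mem_union, mem_singleton, mem_filter, true_and, mem_sqs, true_iff]
    by_cases h : k = 0
    · exact Or.inl (Or.inl h)
    · by_cases h1 : IsSquare k
      · exact Or.inl (Or.inr ⟨h, h1⟩)
      · exact Or.inr h1
  conv_lhs => rw [e]
  rw [Finset.sum_union, Finset.sum_union, Finset.sum_singleton, h0, zero_add]
  · rw [Finset.disjoint_left]
    intro k hk hk'
    rw [mem_singleton] at hk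
    exact (mem_sqs.1 hk').1 hk
  · rw [Finset.disjoint_left]
    intro k hk hk'
    simp only [mem_union, mem_singleton, mem_sqs, mem_filter, mem_univ, true_and] at hk hk'
    rcases hk with hk | hk
    · rw [hk] at hk'; exact hk' IsSquare.zero
    · exact hk' hk.2

theorem gauss_eta (hη : η ≠ 1) (hη2 : η ^ 2 = 1) {ψ : AddChar K ℂ} (hψ : ψ ≠ 1) :
    gaussSum η ψ = 1 + 2 * ∑ s ∈ sqs K, ψ s := by
  classical
  have h0 : η 0 = 0 := MulChar.map_nonunit _ not_isUnit_zero
  have h1 := AddChar.sum_eq_zero_of_ne_one hψ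
  have h2 := sum_nonzero (fun k : K => ψ k - if k = 0 then 1 else 0) (by simp)
  have h3 : ∑ k : K, (ψ k - if k = 0 then 1 else 0) = -1 := by
    rw [Finset.sum_sub_distrib, h1, Finset.sum_ite_eq' univ (0 : K)]
    simp
  have h4 : ∑ k ∈ sqs K, (ψ k - if k = 0 then 1 else 0) = ∑ k ∈ sqs K, ψ k := by
    refine Finset.sum_congr rfl fun k hk => ?_
    rw [if_neg (mem_sqs.1 hk).1, sub_zero]
  have h5 : ∑ k ∈ univ.filter (fun k : K => ¬ IsSquare k), (ψ k - if k = 0 then 1 else 0) =
      ∑ k ∈ univ.filter (fun k : K => ¬ IsSquare k), ψ k := by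
    refine Finset.sum_congr rfl fun k hk => ?_
    rw [if_neg, sub_zero]
    rintro rfl
    exact (mem_filter.1 hk).2 IsSquare.zero
  rw [h3, h4, h5] at h2
  rw [gaussSum, sum_nonzero _ (by rw [h0, zero_mul])]
  have h6 : ∑ k ∈ sqs K, η k * ψ k = ∑ k ∈ sqs K, ψ k := by
    refine Finset.sum_congr rfl fun k hk => ?_
    rw [eta_of_isSquare hη2 (mem_sqs.1 hk).1 (mem_sqs.1 hk).2, one_mul]
  have h7 : ∑ k ∈ univ.filter (fun k : K => ¬ IsSquare k), η k * ψ k =
      - ∑ k ∈ univ.filter (fun k : K => ¬ IsSquare k), ψ k := by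
    rw [← Finset.sum_neg_distrib]
    refine Finset.sum_congr rfl fun k hk => ?_
    rw [eta_of_not_isSquare hη hη2 (mem_filter.1 hk).2, neg_one_mul]
  rw [h6, h7]
  linear_combination h2

open Classical in
/-- A root of `T ^ 2 - t T + n` outside `K`. -/
noncomputable def rt (K L : Type) [Field K] [Field L] [Algebra K L] (d : K × K) : L :=
  if h : ∃ y : L, (∀ k : K, algebraMap K L k ≠ y) ∧ Algebra.trace K L y = d.1 ∧
    Algebra.norm K y = d.2 then h.choose else 0

theorem rt_spec (hf : Module.finrank K L = 2) (h2 : ringChar K ≠ 2) {d : K × K}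
    (h : ¬ IsSquare (d.1 ^ 2 - 4 * d.2)) :
    (∀ k : K, algebraMap K L k ≠ rt K L d) ∧ Algebra.trace K L (rt K L d) = d.1 ∧
      Algebra.norm K (rt K L d) = d.2 := by
  have h := exists_root (L := L) hf h2 h
  rw [rt, dif_pos h]
  exact h.choose_spec

open Classical in
/-- The Gauss sum of `X` over `L`. -/
theorem gauss_X (hf : Module.finrank K L = 2) (h2 : ringChar K ≠ 2) (hη : η ≠ 1)
    (hη2 : η ^ 2 = 1) (hXY : X ^ 2 = mulNorm Y) (hX : X ^ (Fintype.card K - 1) ≠ 1)
    (ψ : AddChar K ℂ) :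
    gaussSum X (addTrace L ψ) = ∑ k : K, Y k * η k * ψ (2 * k) +
      2 * ∑ d ∈ prs K, ψ d.1 * X (rt K L d) := by
  rw [gaussSum]
  -- split off `K`
  have e1 : ∑ y : L, X y * (addTrace L ψ) y =
      ∑ y ∈ univ.filter (fun y : L => ∃ k : K, algebraMap K L k = y), X y * (addTrace L ψ) y +
      ∑ y ∈ univ.filter (fun y : L => ¬ ∃ k : K, algebraMap K L k = y), X y * (addTrace L ψ) y :=
    (Finset.sum_filter_add_sum_filter_not univ _ _).symm
  rw [e1]
  congr 1
  · symm
    refine Finset.sum_bij (fun k _ => algebraMap K L k) ?_ ?_ ?_ ?_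
    · intro k _
      exact mem_filter.2 ⟨mem_univ _, k, rfl⟩
    · intro a _ b _ h
      exact (algebraMap K L).injective h
    · intro y hy
      obtain ⟨k, hk⟩ := (mem_filter.1 hy).2
      exact ⟨k, mem_univ _, hk⟩
    · intro k _
      rw [X_algebraMap hf hη hη2 hXY hX, addTrace_apply, Algebra.trace_algebraMap, hf,
        nsmul_eq_mul, Nat.cast_ofNat]
  · -- fibres
    set D : Finset (K × K) := univ.filter fun d => ¬ IsSquare (d.1 ^ 2 - 4 * d.2) with hD
    have hmaps : ∀ y ∈ univ.filter (fun y : L => ¬ ∃ k : K, algebraMap K L k = y),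
        (Algebra.trace K L y, Algebra.norm K y) ∈ D := by
      intro y hy
      rw [hD, mem_filter]
      refine ⟨mem_univ _, not_isSquare_disc hf h2 ?_⟩
      intro k hk
      exact (mem_filter.1 hy).2 ⟨k, hk⟩
    rw [← Finset.sum_fiberwise_of_maps_to hmaps, Finset.mul_sum]
    have hfib : ∀ d ∈ D, ∑ y ∈ (univ.filter (fun y : L => ¬ ∃ k : K, algebraMap K L k = y)).filter
        (fun y => (Algebra.trace K L y, Algebra.norm K y) = d), X y * (addTrace L ψ) y =
        ψ d.1 * (X (rt K L d) * (1 + η d.2)) := by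
      intro d hd
      have hd' : ¬ IsSquare (d.1 ^ 2 - 4 * d.2) := (mem_filter.1 hd).2
      obtain ⟨hr1, hr2, hr3⟩ := rt_spec (L := L) hf h2 hd'
      have hfr : fr K L (rt K L d) ≠ rt K L d := by
        intro h
        obtain ⟨k, hk⟩ := (fr_eq_iff hf h2 _).1 h
        exact hr1 k hk
      have hset : (univ.filter (fun y : L => ¬ ∃ k : K, algebraMap K L k = y)).filter
          (fun y => (Algebra.trace K L y, Algebra.norm K y) = d) =
          {rt K L d, fr K L (rt K L d)} := by
        ext y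
        simp only [mem_filter, mem_univ, true_and, mem_insert, mem_singleton]
        constructor
        · rintro ⟨_, hy⟩
          have h3 : Algebra.trace K L (rt K L d) = Algebra.trace K L y := by rw [hr2, ← hy]
          have h4 : Algebra.norm K (rt K L d) = Algebra.norm K y := by rw [hr3, ← hy]
          exact eq_or_eq_fr hf h3 h4
        · rintro (rfl | rfl)
          · refine ⟨?_, ?_⟩
            · rintro ⟨k, hk⟩; exact hr1 k hk
            · rw [hr2, hr3]
          · refine ⟨?_, ?_⟩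
            · intro h
              have := (fr_eq_iff hf h2 _).2 h
              rw [fr_fr hf] at this
              exact hfr this.symm
            · rw [trace_fr hf, norm_fr hf, hr2, hr3]
      rw [hset, Finset.sum_pair (Ne.symm hfr), addTrace_apply, addTrace_apply, trace_fr hf, hr2,
        X_frob hη hη2 hXY hX, hr3]
      ring
    rw [Finset.sum_congr rfl hfib]
    have hsub : prs K ⊆ D := by
      intro d hd
      rw [hD, mem_filter]
      exact ⟨mem_univ _, (mem_prs.1 hd).2.2⟩
    rw [← Finset.sum_subset hsub]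
    · refine Finset.sum_congr rfl fun d hd => ?_
      rw [eta_of_isSquare hη2 (mem_prs.1 hd).1 (mem_prs.1 hd).2.1]
      ring
    · intro d hd hd'
      have hd1 : ¬ IsSquare (d.1 ^ 2 - 4 * d.2) := (mem_filter.1 hd).2
      have : ¬ IsSquare d.2 := by
        intro h
        apply hd'
        refine mem_prs.2 ⟨?_, h, hd1⟩
        intro h0
        apply hd1
        rw [h0, mul_zero, sub_zero]
        exact IsSquare.sq _
      rw [eta_of_not_isSquare hη hη2 this]
      ring

/-- The sum of the two sides is twice `B`. -/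
theorem sum_eq (hf : Module.finrank K L = 2) (h2 : ringChar K ≠ 2) (hη : η ≠ 1)
    (hη2 : η ^ 2 = 1) (hXY : X ^ 2 = mulNorm Y) (hX : X ^ (Fintype.card K - 1) ≠ 1)
    {ψ : AddChar K ℂ} (hψ : ψ ≠ 1) :
    gaussSum X (addTrace L ψ) + gaussSum Y (ψ.mulShift 2) * gaussSum η ψ =
      2 * (∑ s ∈ sqs K, ψ (2 * s) * Y s + (∑ s ∈ sqs K, ψ s) * (∑ y : K, ψ (2 * y) * Y y) +
        ∑ d ∈ prs K, ψ d.1 * X (rt K L d)) := by
  classical
  have hY0 : Y 0 = 0 := MulChar.map_nonunit _ not_isUnit_zero
  rw [gauss_X hf h2 hη hη2 hXY hX ψ, gauss_eta hη hη2 hψ]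
  have e1 : gaussSum Y (ψ.mulShift 2) = ∑ y : K, ψ (2 * y) * Y y := by
    rw [gaussSum]
    refine Finset.sum_congr rfl fun y _ => ?_
    rw [AddChar.mulShift_apply, mul_comm]
  have e2 : ∑ k : K, Y k * η k * ψ (2 * k) + ∑ y : K, ψ (2 * y) * Y y =
      2 * ∑ s ∈ sqs K, ψ (2 * s) * Y s := by
    rw [← Finset.sum_add_distrib, sum_nonzero _ (by rw [hY0]; ring), Finset.mul_sum]
    have e3 : ∑ k ∈ univ.filter (fun k : K => ¬ IsSquare k),
        (Y k * η k * ψ (2 * k) + ψ (2 * k) * Y k) = 0 := by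
      refine Finset.sum_eq_zero fun k hk => ?_
      rw [eta_of_not_isSquare hη hη2 (mem_filter.1 hk).2]
      ring
    rw [e3, add_zero]
    refine Finset.sum_congr rfl fun k hk => ?_
    rw [eta_of_isSquare hη2 (mem_sqs.1 hk).1 (mem_sqs.1 hk).2]
    ring
  rw [e1]
  linear_combination e2

/-! ## Reduction modulo a maximal ideal over 2 -/

/-- The ring of algebraic integers in `ℂ`. -/
local notation "𝒪" => (integralClosure ℤ ℂ)

theorem isIntegral_addChar (ψ : AddChar K ℂ) (x : K) : IsIntegral ℤ (ψ x) := by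
  have h : ψ x ^ Fintype.card K = 1 := by
    rw [← AddChar.map_nsmul_eq_pow, nsmul_eq_mul, FiniteField.cast_card_eq_zero, zero_mul,
      AddChar.map_zero_eq_one]
  exact IsIntegral.of_pow Fintype.card_pos (by rw [h]; exact isIntegral_one)

theorem mulChar_pow_card {F : Type} [Field F] [Fintype F] (χ : MulChar F ℂ) {x : F} (hx : x ≠ 0) :
    χ x ^ (Fintype.card F - 1) = 1 := by
  rw [← map_pow, FiniteField.pow_card_sub_one_eq_one _ hx, map_one]

theorem isIntegral_mulChar {F : Type} [Field F] [Fintype F] (χ : MulChar F ℂ) (x : F) :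
    IsIntegral ℤ (χ x) := by
  by_cases hx : x = 0
  · subst hx
    rw [MulChar.map_nonunit _ not_isUnit_zero]
    exact isIntegral_zero
  · have h1 : 1 < Fintype.card F := Fintype.one_lt_card
    exact IsIntegral.of_pow (n := Fintype.card F - 1) (by omega)
      (by rw [mulChar_pow_card χ hx]; exact isIntegral_one)

theorem isIntegral_gaussSum {F : Type} [Field F] [Fintype F] (χ : MulChar F ℂ)
    (ψ : AddChar F ℂ) : IsIntegral ℤ (gaussSum χ ψ) := by
  rw [gaussSum]
  exact IsIntegral.sum _ fun x _ => (isIntegral_mulChar χ x).mul (isIntegral_addChar ψ x)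

/-- There is a maximal ideal over `2`. -/
theorem exists_maximal_two : ∃ M : Ideal 𝒪, M.IsMaximal ∧ (2 : 𝒪) ∈ M := by
  have h : Ideal.span {(2 : 𝒪)} ≠ ⊤ := by
    intro h
    rw [Ideal.span_singleton_eq_top] at h
    obtain ⟨u, hu⟩ := h
    have h1 : (2 : ℂ) * ((↑u⁻¹ : 𝒪) : ℂ) = 1 := by
      have h2 : (2 : 𝒪) * (↑u⁻¹ : 𝒪) = 1 := by rw [← hu, Units.mul_inv]
      exact congrArg (Subtype.val) h2
    have h3 : ((↑u⁻¹ : 𝒪) : ℂ) = algebraMap ℚ ℂ (1 / 2) := by
      rw [eq_ratCast]
      push_cast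
      linear_combination h1 / 2
    have h4 : IsIntegral ℤ (algebraMap ℚ ℂ (1 / 2)) := by
      rw [← h3]
      exact (↑u⁻¹ : 𝒪).2
    rw [isIntegral_algebraMap_iff (algebraMap ℚ ℂ).injective] at h4
    obtain ⟨z, hz⟩ := IsIntegrallyClosed.isIntegral_iff.1 h4
    have h5 : (2 * z : ℚ) = 1 := by
      have : (z : ℚ) = 1 / 2 := by simpa using hz
      rw [this]; norm_num
    have h6 : 2 * z = 1 := by exact_mod_cast h5
    omega
  obtain ⟨M, hM, hle⟩ := Ideal.exists_le_maximal _ h
  exact ⟨M, hM, hle (Ideal.subset_span rfl)⟩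

theorem pow_two_pow_eq_one {F : Type*} [Field F] (hF : (2 : F) = 0) {z : F} (a : ℕ)
    (h : z ^ 2 ^ a = 1) : z = 1 := by
  induction a with
  | zero => simpa using h
  | succ a ih =>
    apply ih
    have h1 : (z ^ 2 ^ a - 1) ^ 2 = 0 := by
      have : (z ^ 2 ^ a) ^ 2 = 1 := by rw [← pow_mul, ← pow_succ]; exact h
      linear_combination this + (1 - z ^ 2 ^ a) * hF
    exact sub_eq_zero.1 (pow_eq_zero_iff two_ne_zero |>.1 h1)

theorem B_mem (M : Ideal 𝒪) [M.IsMaximal] (hM : (2 : 𝒪) ∈ M)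
    (hf : Module.finrank K L = 2) (h2 : ringChar K ≠ 2)
    (hXY : X ^ 2 = mulNorm Y) (ψ : AddChar K ℂ) :
    ∃ B : 𝒪, B ∈ M ∧ (B : ℂ) =
      ∑ s ∈ sqs K, ψ (2 * s) * Y s + (∑ s ∈ sqs K, ψ s) * (∑ y : K, ψ (2 * y) * Y y) +
        ∑ d ∈ prs K, ψ d.1 * X (rt K L d) := by
  classical
  let ψ' : K → 𝒪 := fun x => ⟨ψ x, isIntegral_addChar ψ x⟩
  let Y' : K → 𝒪 := fun x => ⟨Y x, isIntegral_mulChar Y x⟩
  let X' : L → 𝒪 := fun x => ⟨X x, isIntegral_mulChar X x⟩
  refine ⟨∑ s ∈ sqs K, ψ' (2 * s) * Y' s + (∑ s ∈ sqs K, ψ' s) * (∑ y : K, ψ' (2 * y) * Y' y) +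
        ∑ d ∈ prs K, ψ' d.1 * X' (rt K L d), ?_, ?_⟩
  swap
  · push_cast
    rfl
  rw [← Ideal.Quotient.eq_zero_iff_mem]
  let _ : Field (𝒪 ⧸ M) := Ideal.Quotient.field M
  set mk : 𝒪 →+* 𝒪 ⧸ M := Ideal.Quotient.mk M with hmk
  have hR : (2 : 𝒪 ⧸ M) = 0 := by
    have : mk 2 = 0 := Ideal.Quotient.eq_zero_iff_mem.2 hM
    rw [← this, map_ofNat]
  -- the additive character
  let ψb : AddChar K (𝒪 ⧸ M) :=
    { toFun := fun x => mk (ψ' x)
      map_zero_eq_one' := by
        have : ψ' 0 = 1 := Subtype.ext (AddChar.map_zero_eq_one ψ)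
        show mk (ψ' 0) = 1
        rw [this, map_one]
      map_add_eq_mul' := by
        intro a b
        have : ψ' (a + b) = ψ' a * ψ' b := Subtype.ext (AddChar.map_add_eq_mul ψ a b)
        show mk (ψ' (a + b)) = mk (ψ' a) * mk (ψ' b)
        rw [this, map_mul] }
  -- the odd part of `q - 1`
  have h1 : 1 < Fintype.card K := Fintype.one_lt_card
  obtain ⟨a, m, hm, hq⟩ := Nat.exists_eq_two_pow_mul_odd (n := Fintype.card K - 1) (by omega)
  obtain ⟨r, hr⟩ : ∃ r, m + 1 = 2 * r := ⟨(m + 1) / 2, by have := Nat.odd_iff.1 hm; omega⟩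
  let c : K → 𝒪 ⧸ M := fun n => mk (Y' n) ^ r
  have hYm : ∀ y : K, y ≠ 0 → mk (Y' y) ^ m = 1 := by
    intro y hy
    apply pow_two_pow_eq_one hR a
    rw [← pow_mul, mul_comm m, ← hq, ← map_pow]
    have : Y' y ^ (Fintype.card K - 1) = 1 := Subtype.ext (by
      push_cast
      exact mulChar_pow_card Y hy)
    rw [this, map_one]
  have hYc : ∀ y : K, mk (Y' y) = c (y ^ 2) := by
    intro y
    have e : Y' (y ^ 2) = Y' y ^ 2 := Subtype.ext (by push_cast; exact map_pow Y y 2)
    show _ = mk (Y' (y ^ 2)) ^ r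
    rw [e, map_pow, ← pow_mul, ← hr, pow_succ]
    by_cases hy : y = 0
    · have : Y' y = 0 := Subtype.ext (by
        show Y y = 0
        rw [hy, MulChar.map_nonunit _ not_isUnit_zero])
      rw [this, map_zero, mul_zero]
    · rw [hYm y hy, one_mul]
  have hXc : ∀ d ∈ prs K, mk (X' (rt K L d)) = c d.2 := by
    intro d hd
    obtain ⟨hd0, _, hd1⟩ := mem_prs.1 hd
    obtain ⟨hr1, hr2, hr3⟩ := rt_spec (L := L) hf h2 hd1
    have e : X' (rt K L d) ^ 2 = Y' d.2 := Subtype.ext (by
      push_cast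
      show X (rt K L d) ^ 2 = Y d.2
      rw [X_sq_apply hXY, hr3])
    have hm1 : mk (X' (rt K L d)) ^ m = 1 := by
      apply pow_two_pow_eq_one hR (a + 1)
      rw [← pow_mul, pow_succ]
      have : m * (2 ^ a * 2) = 2 * (2 ^ a * m) := by ring
      rw [this, ← hq, pow_mul, ← map_pow, e, ← map_pow]
      have : Y' d.2 ^ (Fintype.card K - 1) = 1 := Subtype.ext (by
        push_cast
        exact mulChar_pow_card Y hd0)
      rw [this, map_one]
    show _ = mk (Y' d.2) ^ r
    rw [← e, map_pow, ← pow_mul, ← hr, pow_succ, hm1, one_mul]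
  -- apply the identity
  have key := char2_identity (two_ne h2) hR ψb c
  rw [map_add, map_add, map_sum, map_mul, map_sum, map_sum, map_sum]
  rw [← key]
  congr 1
  · congr 1
    · refine Finset.sum_congr rfl fun s _ => ?_
      rw [map_mul, hYc]
      rfl
    · congr 1
      have e : ∑ y : K, mk (ψ' (2 * y) * Y' y) =
          ∑ y ∈ univ.filter (fun y : K => y ≠ 0), mk (ψ' (2 * y) * Y' y) := by
        symm
        apply Finset.sum_subset (Finset.filter_subset _ _)
        intro y _ hy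
        have hy0 : y = 0 := by
          by_contra h
          exact hy (mem_filter.2 ⟨mem_univ _, h⟩)
        have : Y' y = 0 := Subtype.ext (by
          show Y y = 0
          rw [hy0, MulChar.map_nonunit _ not_isUnit_zero])
        rw [this, mul_zero, map_zero]
      rw [e]
      refine Finset.sum_congr rfl fun s _ => ?_
      rw [map_mul, hYc]
      rfl
  · refine Finset.sum_congr rfl fun d hd => ?_
    rw [map_mul, hXc d hd]
    rfl

end chars

/-- **The sign.** -/
theorem sign (K L : Type) [Field K] [Fintype K] [Field L] [Fintype L] [Algebra K L]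
    (X : MulChar L ℂ) (Y η : MulChar K ℂ) (ψ : AddChar K ℂ) (hψ : ψ ≠ 1) (h2 : ringChar K ≠ 2)
    (hη : η ≠ 1) (hη2 : η ^ 2 = 1) (hf : Module.finrank K L = 2) (hXY : X ^ 2 = mulNorm Y)
    (hX : X ^ (Fintype.card K - 1) ≠ 1) :
    gaussSum X (addTrace L ψ) ≠ gaussSum Y (ψ.mulShift 2) * gaussSum η ψ := by
  intro heq
  obtain ⟨M, hMmax, hM⟩ := exists_maximal_two
  obtain ⟨B, hB, hB'⟩ := B_mem (X := X) (Y := Y) M hM hf h2 hXY ψ
  have hsum := sum_eq hf h2 hη hη2 hXY hX hψ
  rw [← hB', heq] at hsum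
  have hP : (B : ℂ) = gaussSum Y (ψ.mulShift 2) * gaussSum η ψ := by
    linear_combination -hsum / 2
  -- `ψ` is primitive
  have hprim : ψ.IsPrimitive := AddChar.IsPrimitive.of_ne_one hψ
  have hψ2 : ψ.mulShift 2 ≠ 1 := hprim (two_ne h2)
  have hprim2 : (ψ.mulShift 2).IsPrimitive := AddChar.IsPrimitive.of_ne_one hψ2
  -- the product divides an odd number
  have hodd : Fintype.card K % 2 = 1 := FiniteField.odd_card_of_char_ne_two h2
  obtain ⟨C, hC, n, hn, hCn⟩ : ∃ C : ℂ, IsIntegral ℤ C ∧ ∃ n : ℤ, n % 2 = 1 ∧ (B : ℂ) * C = n := by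
    have h1 : gaussSum η ψ * gaussSum η⁻¹ ψ⁻¹ = Fintype.card K :=
      gaussSum_mul_gaussSum_eq_card hη hprim
    by_cases hY : Y = 1
    · refine ⟨gaussSum η⁻¹ ψ⁻¹, isIntegral_gaussSum _ _, -(Fintype.card K : ℤ), by omega, ?_⟩
      rw [hP, hY, gaussSum_one_left hψ2]
      push_cast
      linear_combination -h1
    · have h3 : gaussSum Y (ψ.mulShift 2) * gaussSum Y⁻¹ (ψ.mulShift 2)⁻¹ = Fintype.card K :=
        gaussSum_mul_gaussSum_eq_card hY hprim2
      refine ⟨gaussSum Y⁻¹ (ψ.mulShift 2)⁻¹ * gaussSum η⁻¹ ψ⁻¹,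
        (isIntegral_gaussSum _ _).mul (isIntegral_gaussSum _ _),
        (Fintype.card K : ℤ) * (Fintype.card K : ℤ), ?_, ?_⟩
      · rw [Int.mul_emod]
        have : (Fintype.card K : ℤ) % 2 = 1 := by omega
        rw [this]; rfl
      · rw [hP]
        push_cast
        linear_combination (gaussSum η ψ * gaussSum η⁻¹ ψ⁻¹) * h3 + (Fintype.card K : ℂ) * h1
  have hnM : (n : integralClosure ℤ ℂ) ∈ M := by
    have : (n : integralClosure ℤ ℂ) = B * ⟨C, hC⟩ := Subtype.ext (by push_cast; exact hCn.symm)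
    rw [this]
    exact M.mul_mem_right _ hB
  have h1M : (1 : integralClosure ℤ ℂ) ∈ M := by
    obtain ⟨k, hk⟩ : ∃ k, n = 2 * k + 1 := ⟨n / 2, by omega⟩
    have : (1 : integralClosure ℤ ℂ) = n - k * 2 := by
      rw [hk]; push_cast; ring
    rw [this]
    exact M.sub_mem hnM (M.mul_mem_left _ hM)
  exact hMmax.ne_top ((Ideal.eq_top_iff_one M).2 h1M)

end Cfsg.Agent.H32.KGV
end
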